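import Cfsg.Agent.Spor.ON.L37
import Cfsg.Agent.Spor.ON.Subs
import Cfsg.Agent.Comp.BitFix

/-! Data on a Sylow 7-subgroup of the O'Nan group. -/

set_option autoImplicit false
set_option Elab.async false
set_option maxRecDepth 100000

namespace Cfsg.Agent.ONT.L7

open Cfsg.Agent.Comp.BN Cfsg.Agent.Spor.ONC Cfsg.Agent.Spor.ONC.M

def LW : List (List ℕ) := [[4, 5, 4, 5, 6, 5, 4, 3], [2, 3, 4, 5, 3, 4, 5, 6, 5, 2],
  [6, 5, 4, 5, 3, 4, 5, 6, 5, 3, 4, 5, 3, 4, 5, 3], [7, 5, 6, 5, 3, 4, 5, 3, 4, 5, 6, 7, 5, 3, 4, 5, 3, 4],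
  [7, 4, 5, 6, 4, 5, 3, 4, 5, 3, 4, 5, 6, 5, 4, 5, 3, 2],
  [2, 3, 4, 5, 6, 4, 5, 3, 4, 5, 6, 7, 6, 5, 3, 4, 5, 6, 3, 4, 5, 4, 3, 2]]

def HW : List (List ℕ) := [[3, 4, 5, 6, 5, 4, 5, 3, 4, 5, 6, 5, 3, 4, 5, 3, 4, 5, 6, 5, 3, 4, 5, 4],
  [5, 6, 5, 4, 5, 2, 3, 4, 5, 6, 5, 3, 4, 5, 3, 4, 5, 6, 5, 3, 4, 5, 3, 4, 3, 2], [6, 5, 4, 5, 3, 4, 5, 3],
  [5, 6, 7, 6, 5, 3, 4, 5, 3, 4], [7, 4, 5, 6, 4, 5, 4, 5, 3, 2],
  [6, 5, 4, 5, 6, 3, 4, 5, 2, 3, 4, 5, 6, 5, 4, 5, 3, 4, 5, 6, 7, 5, 3, 4, 5, 2]]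

def EQ : List (List ℕ × List ℕ) := [([1, 0], [0, 1, 2]), ([2, 0], [0, 2]), ([2, 1], [1, 2]),
  ([0, 0, 0, 0, 0, 0, 0], []), ([1, 1, 1, 1, 1, 1, 1], []), ([2, 2, 2, 2, 2, 2, 2], []),
  ([0, 3], [3, 0]), ([2, 3], [3, 0, 2]), ([1, 4], [4, 1]), ([2, 4], [4, 1, 2]),
  ([0, 5], [5, 0]), ([1, 5, 1], [5]), ([2, 5, 2], [5])]

/-- the outer automorphism -/
def Ws : List (List ℕ) := [[6, 3, 4, 5, 3, 0, 7, 5, 6, 2, 3, 4, 2], [6, 4, 5, 2, 3, 0, 5, 6, 3, 4, 3],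
  [3, 1, 4, 3, 0, 2, 3, 4, 3, 2], [0, 4, 0, 7], [3, 1, 4, 3, 0, 4, 2, 3, 2],
  [6, 3, 0, 3, 4, 5, 4, 5, 3, 0, 7, 5, 6, 2, 3], [7], [7, 6, 7]]

def cW : List ℕ := [7, 6, 5, 4, 5, 6, 2, 3, 4, 5, 0, 6, 3, 4, 5, 0, 3, 4, 5, 0]

def oL (s : Bool) : List ℕ := bif s then [13896, 51841, 98971, 27003, 91647, 59058, 24724]
  else [33324, 67027, 101670, 44631, 75849, 59057, 111462]

def o (s : Bool) (n : ZMod 7) : ℕ := (oL s).getD n.val 0

def eV (s : Bool) : ZMod 7 := bif s then 1 else -1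

noncomputable def eqC (U V : List ℕ) : Bool :=
  allL (fun p => Nat.beq (ptW act1 U p) (ptW act1 V p)) [55, 85, 0]

theorem eq_c : allL (fun p => eqC (subst LW p.1) (subst LW p.2)) EQ = true := by decide +kernel

theorem sq_c : allN (fun k => band (fixC act1 [0] (nth [] HW k))
    (eqC (appendL (nth [] HW k) (nth [] HW k)) (nth [] LW k))) 6 = true := by decide +kernel

theorem tr_c : (ptW act1 (nth [] LW 0) 0 = 0 ∧ ∀ s n, ptW act1 (nth [] LW 0) (o s n) = o s (n + 1)) ∧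
    (ptW act1 (nth [] LW 1) 0 = 0 ∧ ∀ s n, ptW act1 (nth [] LW 1) (o s n) = o s (n + eV s)) ∧
    (ptW act1 (nth [] LW 2) 0 = 0 ∧ ∀ s n, ptW act1 (nth [] LW 2) (o s n) = o s (n + 0)) ∧
    Nat.beq (ptW act1 (nth [] LW 2) 1) 1 = false := by decide +kernel

theorem o_c : ∀ s n, o s n < 122760 ∧ ∀ s' n', o s n = o s' n' → s = s' ∧ n = n' := by decide +kernel

def mk : List ℕ → ℕ
  | [] => 0
  | p :: l => Nat.lor (Nat.shiftLeft 1 p) (mk l)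

theorem mem_of_mk {l : List ℕ} {i : ℕ} (h : (mk l).testBit i = true) : i ∈ l := by
  induction l with
  | nil => simp [mk] at h
  | cons p l ih =>
    change (1 <<< p ||| mk l).testBit i = true at h
    rw [Nat.testBit_or, Bool.or_eq_true, Nat.one_shiftLeft, Nat.testBit_two_pow, decide_eq_true_eq] at h
    exact h.elim (fun e => e ▸ List.mem_cons_self) fun e => List.mem_cons_of_mem _ (ih e)

theorem fix_c : subs (Nat.land (fixM act 131072 17 (nth [] LW 2)) (ones 122760))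
    (mk (0 :: (oL true ++ oL false))) = true := by decide +kernel

theorem ch0 : levelC (subAct act1 LW) 17 [] 32568 [[0], [1], [2], [3], [4], [5]] 4 5586 = true := by
  decide +kernel

theorem ch1 : levelC (subAct act1 LW) 17 [32568] 45 [[4, 2], [3, 5]] 9 336 = true := by decide +kernel

theorem ch : ChainOK (subT π LW) [] [(32568, 5586), (45, 336)] :=
  ⟨level_of_check (spec1.sub LW) ch0, level_of_check (spec1.sub LW) ch1, trivial⟩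

theorem ws_i : PModel.satC act1 [55, 85, 0] Ws (invRels P P.inv.length) = true := by decide +kernel

theorem ws_r : PModel.satC act1 [55, 85, 0] Ws P.rels = true := by decide +kernel

theorem al_c : eqC (appendL cW (subst Ws (nth [] LW 0))) (appendL (subst LW [0, 1, 2, 2, 2]) cW) = true ∧
    eqC (appendL cW (subst Ws (nth [] LW 1))) (appendL (subst LW [0, 1, 1, 1, 1, 1, 1]) cW) = true ∧
    Nat.beq (ptW act1 (subst Ws [6]) 55) 55 = false := by decide +kernel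

theorem pt_c : Nat.beq (ptW act1 [0] 0) 1 = true ∧ Nat.beq (ptW act1 [1, 6, 4, 3, 0] 0) 7 = true ∧
    Nat.beq (ptW act1 [1, 6, 0] 0) 20 = true ∧ Nat.beq (ptW act1 [1, 3, 1, 6, 4, 3, 0] 0) 45 = true := by
  decide +kernel

end Cfsg.Agent.ONT.L7
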